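import Cfsg.Agent.Lib.SylowLift.Basic
import Cfsg.Agent.Lib.Cores.Basic
import Cfsg.Agent.Lib.Solvable.Basic

/-!
* `centralizer_pCore_le_of_solvable`: solvable, `O_{p'}(G) = 1` implies `C(O_p(G)) ≤ O_p(G)`.
* `isPGroup_mulAut_of_isCyclic`: automorphism groups of cyclic 2-groups are 2-groups.
* `commute_of_odd`: an element of odd order normalizing a cyclic 2-group centralizes it.
-/

namespace Cfsg.Agent.SylowLift

theorem centralizer_pCore_le_of_solvable {p : ℕ} [Fact p.Prime] {G : Type*} [Group G] [Finite G]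
    [Group.IsSolvable G] (h : Cfsg.pPrimeCore p G = ⊥) :
    Subgroup.centralizer (Cfsg.pCore p G : Set G) ≤ Cfsg.pCore p G := by
  by_contra hC
  set Q := Cfsg.pCore p G with hQ
  set f := QuotientGroup.mk' Q with hf
  have hfs : Function.Surjective f := QuotientGroup.mk'_surjective Q
  let C := Subgroup.centralizer (Q : Set G)
  have : (C.map f).Normal := (inferInstance : C.Normal).map f hfs
  obtain ⟨N', hN'n, hN'le, hN'ne, -, q, hq, hN'q⟩ : ∃ N' : Subgroup (G ⧸ Q), N'.Normal ∧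
      N' ≤ C.map f ∧ N' ≠ ⊥ ∧ IsMulCommutative N' ∧ ∃ q : ℕ, q.Prime ∧ IsPGroup q N' := by
    have hne : C.map f ≠ ⊥ := Solvable.map_mk'_ne_bot hC
    obtain ⟨M, hM, hMne, hMle, hmin⟩ := Solvable.exists_minimal_normal hne
    have := hM
    have := Solvable.isSolvable_of_le (le_top : M ≤ ⊤)
    obtain ⟨hc, q, hq, hMq, -⟩ := Solvable.elementaryAbelian_of_minimal_normal M hMne hmin
    exact ⟨M, hM, hMle, hMne, hc, q, hq, hMq⟩
  have := Fact.mk hq
  have hqp : q ≠ p := by
    rintro rfl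
    exact hN'ne (le_bot_iff.mp ((Cores.le_pCore hN'n hN'q).trans
      (Cores.pCore_quotient_self q G).le))
  set N := N'.comap f ⊓ C with hNdef
  have : N.Normal := inferInstance
  have hNmap : N.map f = N' := by
    refine le_antisymm ((Subgroup.map_mono inf_le_left).trans (Subgroup.map_comap_le _ _)) ?_
    intro y hy
    obtain ⟨x, hx, rfl⟩ := hN'le hy
    exact ⟨x, ⟨hy, hx⟩, rfl⟩
  let g : N →* N' := (f.comp N.subtype).codRestrict N' fun x => x.2.1
  have hg : Function.Surjective g := by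
    rintro ⟨y, hy⟩
    obtain ⟨x, hx, rfl⟩ := hNmap.ge hy
    exact ⟨⟨x, hx⟩, rfl⟩
  obtain ⟨R⟩ : Nonempty (Sylow q N) := inferInstance
  have hRg := map_eq_top_of_isPGroup hg hN'q R
  have hdec : ∀ n : N, ∃ r ∈ (R : Subgroup N), ((r⁻¹ * n : N) : G) ∈ Q := by
    intro n
    obtain ⟨r, hr, hrn⟩ := hRg.ge (Subgroup.mem_top (g n))
    refine ⟨r, hr, ?_⟩
    have : f (r : G) = f (n : G) := congrArg Subtype.val hrn
    rw [← QuotientGroup.ker_mk' Q, MonoidHom.mem_ker, ← hf]
    simp [map_mul, map_inv, this]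
  have hRn : (R : Subgroup N).Normal := by
    refine ⟨fun x hx n => ?_⟩
    obtain ⟨r, hr, hz⟩ := hdec n
    have hc : (r⁻¹ * n) * x = x * (r⁻¹ * n) := Subtype.ext
      (Subgroup.mem_centralizer_iff.mp x.2.2 _ hz)
    have h2 : n * x * n⁻¹ = r * x * r⁻¹ := by
      calc n * x * n⁻¹ = r * ((r⁻¹ * n) * x) * n⁻¹ := by group
        _ = r * (x * (r⁻¹ * n)) * n⁻¹ := by rw [hc]
        _ = r * x * r⁻¹ := by group
    rw [h2]
    exact mul_mem (mul_mem hr hx) (inv_mem hr)
  have : (R : Subgroup N).Characteristic := by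
    have := Sylow.unique_of_normal R hRn
    exact Sylow.characteristic_of_subsingleton R
  have hRmap := Cores.map_subtype_normal_of_characteristic N (R : Subgroup N)
  have hcop : (Nat.card ((R : Subgroup N).map N.subtype)).Coprime p := by
    obtain ⟨k, hk⟩ := IsPGroup.iff_card.mp (R.isPGroup'.map N.subtype)
    rw [hk]
    exact ((Nat.coprime_primes hq Fact.out).mpr hqp).pow_left k
  have hRbot : (R : Subgroup N).map N.subtype = ⊥ :=
    le_bot_iff.mp ((Cores.le_pPrimeCore hRmap hcop).trans h.le)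
  rw [Subgroup.map_eq_bot_iff_of_injective _ N.subtype_injective] at hRbot
  refine hN'ne ?_
  rw [← hNmap, Subgroup.map_eq_bot_iff, QuotientGroup.ker_mk']
  intro x hx
  obtain ⟨r, hr, hz⟩ := hdec ⟨x, hx⟩
  rw [hRbot, Subgroup.mem_bot] at hr
  subst hr
  simpa using hz

theorem isPGroup_mulAut_of_isCyclic {C : Type*} [Group C] [Finite C] [IsCyclic C]
    (hC : IsPGroup 2 C) : IsPGroup 2 (MulAut C) := by
  obtain ⟨k, hk⟩ := IsPGroup.iff_card.mp hC
  refine IsPGroup.iff_card.mpr ⟨k - 1, ?_⟩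
  rw [IsCyclic.card_mulAut, hk]
  rcases k with _ | k
  · simp
  · rw [Nat.totient_prime_pow_succ Nat.prime_two]; simp

/-- An element of odd order acting on a cyclic normal 2-subgroup centralizes it. -/
theorem commute_of_odd {G : Type*} [Group G] [Finite G] (C : Subgroup G) [C.Normal]
    (hC : IsPGroup 2 C) (hc : IsCyclic C) {g : G} (hg : Odd (orderOf g)) {c : G} (hcC : c ∈ C) :
    g * c * g⁻¹ = c := by
  have h2 := isPGroup_mulAut_of_isCyclic hC
  obtain ⟨k, hk⟩ := IsPGroup.iff_orderOf.mp h2 (MulAut.conjNormal g : MulAut C)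
  have hd : orderOf (MulAut.conjNormal g : MulAut C) ∣ orderOf g := orderOf_map_dvd _ g
  rcases k with _ | k
  · rw [pow_zero, orderOf_eq_one_iff] at hk
    have := congrArg Subtype.val (DFunLike.congr_fun hk ⟨c, hcC⟩)
    simpa using this
  · exfalso
    rw [hk] at hd
    exact (Nat.not_even_iff_odd.mpr hg) (even_iff_two_dvd.mpr (dvd_trans (dvd_pow_self 2 k.succ_ne_zero) hd))

end Cfsg.Agent.SylowLift
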