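import Cfsg.Agent.EqLemmas

/-!
Sylow subgroups and surjective homomorphisms.
* `map_eq_top_of_isPGroup`: a Sylow subgroup surjects onto any `p`-group quotient.
* `exists_le_map_eq`: a `p`-subgroup inside the preimage of a Sylow subgroup lies in a lift of it.
* `exists_inf_lift`: two Sylow subgroups of the image lift to two with intersection mapping onto
  their intersection.
* `eq_of_le_of_isPGroup`: a `p`-subgroup containing a Sylow subgroup equals it.
-/

namespace Cfsg.Agent.SylowLift

variable {p : ℕ} [Fact p.Prime] {G Q : Type*} [Group G] [Group Q] [Finite G]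

theorem map_eq_top_of_isPGroup {f : G →* Q} (hf : Function.Surjective f) (hQ : IsPGroup p Q)
    (P : Sylow p G) : (P : Subgroup G).map f = ⊤ := by
  have h := (P.mapSurjective hf).is_maximal' (hQ.to_subgroup ⊤) le_top
  rw [Sylow.coe_mapSurjective] at h
  exact h.symm

/-- A `p`-subgroup of a preimage, lifted to a Sylow subgroup surjecting on the given `p`-group. -/
theorem exists_le_map_ge {f : G →* Q} (hf : Function.Surjective f) {D : Subgroup Q}
    (hD : IsPGroup p D) {R : Subgroup G} (hR : IsPGroup p R) (hRD : R.map f ≤ D) :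
    ∃ R' : Subgroup G, IsPGroup p R' ∧ R ≤ R' ∧ R'.map f = D := by
  have hRK : R ≤ D.comap f := Subgroup.map_le_iff_le_comap.mp hRD
  have hR' : IsPGroup p (R.subgroupOf (D.comap f)) := hR.comap_subtype
  obtain ⟨P, hP⟩ := hR'.exists_le_sylow
  let g : D.comap f →* D := (f.comp (D.comap f).subtype).codRestrict D fun x => x.2
  have hg : Function.Surjective g := by
    rintro ⟨d, hd⟩
    obtain ⟨x, rfl⟩ := hf d
    exact ⟨⟨x, hd⟩, rfl⟩
  have hPg := map_eq_top_of_isPGroup hg hD P
  refine ⟨(P : Subgroup _).map (D.comap f).subtype, P.isPGroup'.map _, ?_, ?_⟩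
  · intro x hx
    exact ⟨⟨x, hRK hx⟩, hP hx, rfl⟩
  · have : ((P : Subgroup _).map g).map D.subtype = D := by
      rw [hPg, ← MonoidHom.range_eq_map, Subgroup.range_subtype]
    rw [Subgroup.map_map] at this ⊢
    exact this

theorem exists_le_map_eq {f : G →* Q} (hf : Function.Surjective f) (S : Sylow p Q)
    {R : Subgroup G} (hR : IsPGroup p R) (hRS : R.map f ≤ (S : Subgroup Q)) :
    ∃ S' : Sylow p G, R ≤ (S' : Subgroup G) ∧ (S' : Subgroup G).map f = (S : Subgroup Q) := by
  obtain ⟨R', hR', hle, hmap⟩ := exists_le_map_ge hf S.isPGroup' hR hRS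
  obtain ⟨S', hS'⟩ := hR'.exists_le_sylow
  refine ⟨S', hle.trans hS', S.is_maximal' (S'.isPGroup'.map f) ?_⟩
  exact hmap.ge.trans (Subgroup.map_mono hS')

theorem exists_inf_lift {f : G →* Q} (hf : Function.Surjective f) (S T : Sylow p Q) :
    ∃ S' T' : Sylow p G, (S' : Subgroup G).map f = (S : Subgroup Q) ∧
      (T' : Subgroup G).map f = (T : Subgroup Q) ∧
      ((S' : Subgroup G) ⊓ (T' : Subgroup G)).map f = (S : Subgroup Q) ⊓ (T : Subgroup Q) := by
  have hD : IsPGroup p ((S : Subgroup Q) ⊓ (T : Subgroup Q) : Subgroup Q) :=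
    S.isPGroup'.to_le inf_le_left
  obtain ⟨R, hR, -, hRmap⟩ := exists_le_map_ge hf hD (R := ⊥) IsPGroup.of_bot (by simp)
  obtain ⟨S', hS1, hS2⟩ := exists_le_map_eq hf S hR (hRmap.le.trans inf_le_left)
  obtain ⟨T', hT1, hT2⟩ := exists_le_map_eq hf T hR (hRmap.le.trans inf_le_right)
  refine ⟨S', T', hS2, hT2, le_antisymm ?_ ?_⟩
  · refine le_inf ?_ ?_
    · exact hS2 ▸ Subgroup.map_mono inf_le_left
    · exact hT2 ▸ Subgroup.map_mono inf_le_right
  · exact hRmap.ge.trans (Subgroup.map_mono (le_inf hS1 hT1))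

/-- Cyclic intersections of distinct Sylow subgroups pass to quotients. -/
theorem isCyclic_inf_of_surjective {f : G →* Q} (hf : Function.Surjective f)
    (hC : ∀ S T : Sylow p G, S ≠ T → IsCyclic ↥((S : Subgroup G) ⊓ (T : Subgroup G)))
    (S T : Sylow p Q) (hne : S ≠ T) :
    IsCyclic ↥((S : Subgroup Q) ⊓ (T : Subgroup Q)) := by
  obtain ⟨S', T', h1, h2, h3⟩ := exists_inf_lift hf S T
  have hne' : S' ≠ T' := by
    rintro rfl
    exact hne (Sylow.ext (h1.symm.trans h2))
  have := hC S' T' hne'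
  have hc := isCyclic_of_surjective (f.subgroupMap ((S' : Subgroup G) ⊓ (T' : Subgroup G)))
    (f.subgroupMap_surjective _)
  rwa [h3] at hc

end Cfsg.Agent.SylowLift
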